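import Groth.Agent.HypSq.K980.Inter
import Groth.Agent.Surf.K461.SerreDual
import Groth.Agent.ArSurf.K482.DetSes
import Groth.Agent.Vancyc.H878.RelOmega
import Groth.Agent.Dual.H339.OmegaRank
import Groth.Agent.S1521
import Groth.Agent.Ega2.VeryAmpleAmple
import Groth.Agent.OmegaSh.K583.ExtPowPull

/-!
# Canonical classes of a hyperelliptic curve and of its square

* `serre`: Serre duality for classes of invertible modules;
* `eq_one_of`: a class of degree zero with a section is trivial;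
* `wc_eq`: `ω_C = ℓ^{g-1}` for a double cover `κ : C ⟶ P^1` of genus `g`;
* `wx_eq`: `ω_{C × C} = ω_C ⊠ ω_C`.
-/

set_option autoImplicit false
universe u

open CategoryTheory CategoryTheory.Limits AlgebraicGeometry Opposite TopologicalSpace

namespace K763.CanonC

open Groth.Agent Groth.Agent.Grpsch.PicGrp K980.PicNum K980.BoxNum K980.NumC K980.Inter
open Groth.Agent.Fdesc.LocGen (isInvertible_tensorMod isInvertible_pullback isInvertible_structureModule)

/-- Serre duality for classes. -/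
theorem serre (k : Type u) [Field k] {X : Scheme.{u}} [X.Over (Spec (CommRingCat.of k))]
    [IsProper (X ↘ Spec (CommRingCat.of k))] (n : ℕ) [SmoothOfRelativeDimension n (X ↘ Spec (CommRingCat.of k))]
    {W : X.Modules} (hW : ExtPow.IsExtPow n (Omega.sheaf (X ↘ Spec (CommRingCat.of k))) W)
    (hWi : PicF.IsInvertible W) (c : Pic X) (m p : ℕ) (h : m + p = n) :
    hd k c p = hd k (mk W hWi * c⁻¹) m := by
  have e : Nonempty (CohB1.tensorMod (rep c) (rep c⁻¹) ≅ Coh.structureModule X) := by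
    rw [← mk_eq_iff (isInvertible_tensorMod (rep_inv c) (rep_inv _)) isInvertible_structureModule,
      ← mk_mul_mk (rep_inv c) (rep_inv _), mk_rep, mk_rep, mul_inv_cancel]
    rfl
  have h1 := K461.SerreDual.finrank_eq k n hW e (K980.PicNum.isCoh (rep_inv c)).1 m p h
  have h2 := hd_mk k (isInvertible_tensorMod hWi (rep_inv c⁻¹)) m
  rw [← mk_mul_mk hWi (rep_inv _), mk_rep] at h2
  rw [h2, ← h1]
  rfl

/-- A class of degree zero with a nonzero section is trivial. -/
theorem eq_one_of (k : Type u) [Field k] {C : Scheme.{u}} [C.Over (Spec (CommRingCat.of k))]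
    [IsProper (C ↘ Spec (CommRingCat.of k))] [IsIntegral C] (hdim : topologicalKrullDim C = 1) (c : Pic C)
    (h0 : hd k c 0 ≠ 0) (hdg : dg k c = 0) : c = 1 := by
  obtain ⟨L, hL, rfl⟩ := exists_mk c
  rw [hd_mk] at h0
  have h2 : Nontrivial (Coh.HH C L 0) := Module.nontrivial_of_finrank_pos (R := k) (Nat.pos_of_ne_zero h0)
  obtain ⟨s, hs⟩ : ∃ s : Coh.structureModule C ⟶ L, s ≠ 0 := by
    by_contra hcon
    push Not at hcon
    have h3 : Subsingleton Γ(L, ⊤) := by
      refine subsingleton_of_forall_eq 0 fun m => ?_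
      have h4 := hcon (Fdesc.LocGen.homOf m)
      have h5 := Fdesc.LocGen.sec_homOf m ⊤
      rw [h4, Fdesc.LocGen.res_refl] at h5
      exact h5.symm
    have h6 : Subsingleton (Coh.HH C L 0) := (CurvesB.HZero.equivAdd L).toEquiv.subsingleton
    exact not_subsingleton _ h6
  have h3 : Curv2.deg k C (Coh.structureModule C) 1 = Curv2.deg k C L 1 := by
    rw [dg, chi_mk, one_def, chi_mk] at hdg
    rw [Curv2.deg, Curv2.deg]
    linarith
  have := (Groth.Agent.S1521.result k C hdim _ L isInvertible_structureModule hL s hs).2 h3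
  rw [one_def, mk_eq_iff]
  exact ⟨(asIso s).symm⟩

section Curve

variable (k : Type u) [Field k] [IsAlgClosed k] {C : Scheme.{u}} [C.Over (Spec (CommRingCat.of k))]
  [IsProper (C ↘ Spec (CommRingCat.of k))] [IsIntegral C] [SmoothOfRelativeDimension 1 (C ↘ Spec (CommRingCat.of k))]
  (hdim : topologicalKrullDim C = 1) (g : ℕ) (hg : 2 ≤ g) (hgen : Curv2.genus k C = g)
  (κ : C ⟶ CohB1.ProjSpace 1 k) (hκ : κ ≫ CohB1.ProjSpace.toSpec 1 k = (C ↘ Spec (CommRingCat.of k)))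
  [IsFinite κ]
  (y : ∀ i : Fin 2, Γ(C, κ ⁻¹ᵁ CurvesC.ProjSpaceBasic.Dp 1 k i))
  (hy : ∀ (i : Fin 2) (V : (CohB1.ProjSpace 1 k).Opens) (hV : V ≤ CurvesC.ProjSpaceBasic.Dp 1 k i),
    Function.Bijective (K980.DCover.pr κ (y i) V hV))
  {W : C.Modules} (hW : ExtPow.IsExtPow 1 (Omega.sheaf (C ↘ Spec (CommRingCat.of k))) W) (hWi : PicF.IsInvertible W)

include hdim hg hgen hκ hy hW in
/-- `ω_C = ℓ^{g-1}`. -/
theorem wc_eq : mk W hWi = ell k κ ((g : ℤ) - 1) := by
  have h1 := serre k 1 hW hWi (ell k κ ((g : ℤ) - 1)) 0 1 rfl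
  have h2 := hd_one k g hgen κ hκ y hy (n := (g : ℤ) - 1) (by omega)
  have h3 := serre k 1 hW hWi (1 : Pic C) 0 1 rfl
  have h4 := serre k 1 hW hWi (1 : Pic C) 1 0 rfl
  rw [inv_one, mul_one] at h3 h4
  have h5 : hd k (1 : Pic C) 1 = g := by
    rw [one_def, hd_mk]
    exact hgen
  have h6 : chi k (mk W hWi) = g - 1 := by
    rw [euler_eq_range k _ 2 (fun i hi => van_curve k hdim.le _ hi), Finset.sum_range_succ, Finset.sum_range_one,
      ← h3, ← h4, h5, hd_structure]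
    push_cast
    ring
  have h7 : dg k (mk W hWi * (ell k κ ((g : ℤ) - 1))⁻¹) = 0 := by
    rw [dg_mul k hdim.le, dg_inv k hdim.le, dg_ell k g hgen κ hκ y hy hdim.le, dg, h6,
      chi_structure k g hgen κ hκ y hy]
    ring
  have h8 : hd k (mk W hWi * (ell k κ ((g : ℤ) - 1))⁻¹) 0 ≠ 0 := by
    rw [← h1]
    omega
  have h9 := eq_one_of k hdim _ h8 h7
  exact mul_inv_eq_one.1 h9

end Curve

section Prod

variable (k : Type u) [Field k] {C : Scheme.{u}} [C.Over (Spec (CommRingCat.of k))]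
  [SmoothOfRelativeDimension 1 (C ↘ Spec (CommRingCat.of k))] [QuasiSeparated (C ↘ Spec (CommRingCat.of k))]

theorem isInvertible_omega : PicF.IsInvertible (Omega.sheaf (C ↘ Spec (CommRingCat.of k))) :=
  Ega2.QCohLocal.isFinLocFreeOfRank_one_iff.1 (Dual.H339.OmegaRank.isFinLocFreeOfRank_omega 1 _)

/-- The canonical class of `C × C`. -/
theorem wx_eq {W : (pullback (C ↘ Spec (CommRingCat.of k)) (C ↘ Spec (CommRingCat.of k))).Modules}
    (hW : ExtPow.IsExtPow 2 (Omega.sheaf (pullback.fst (C ↘ Spec (CommRingCat.of k)) (C ↘ Spec (CommRingCat.of k)) ≫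
      (C ↘ Spec (CommRingCat.of k)))) W) (hWi : PicF.IsInvertible W) :
    mk W hWi = bx k (mk _ (isInvertible_omega k (C := C))) (mk _ (isInvertible_omega k (C := C))) := by
  have hsm : Smooth (C ↘ Spec (CommRingCat.of k)) := SmoothOfRelativeDimension.smooth 1 _
  have hs1 : SmoothOfRelativeDimension 1 (pullback.fst (C ↘ Spec (CommRingCat.of k)) (C ↘ Spec (CommRingCat.of k))) :=
    (smoothOfRelativeDimension_isStableUnderBaseChange.{u} 1).of_isPullback (IsPullback.of_hasPullback _ _).flip ‹_›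
  obtain ⟨T, hT, ⟨e1⟩, ⟨e2⟩, ⟨e3⟩⟩ := Groth.Agent.Vancyc.H878.RelOmega.exists_shortExact
    (pullback.fst (C ↘ Spec (CommRingCat.of k)) (C ↘ Spec (CommRingCat.of k))) (C ↘ Spec (CommRingCat.of k))
  have e4 := Groth.Agent.Vancyc.H878.RelOmega.omegaBC
    (IsPullback.of_hasPullback (C ↘ Spec (CommRingCat.of k)) (C ↘ Spec (CommRingCat.of k))).flip
  have i1 := isInvertible_pullback (pullback.fst (C ↘ Spec (CommRingCat.of k)) (C ↘ Spec (CommRingCat.of k)))
    (isInvertible_omega k (C := C))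
  have i2 := isInvertible_pullback (pullback.snd (C ↘ Spec (CommRingCat.of k)) (C ↘ Spec (CommRingCat.of k)))
    (isInvertible_omega k (C := C))
  have j1 : PicF.IsInvertible T.X₁ := Ega2.VeryAmpleAmple.isInvertible_of_iso e1.symm i1
  have j3 : PicF.IsInvertible T.X₃ := Ega2.VeryAmpleAmple.isInvertible_of_iso (e4 ≪≫ e3.symm) i2
  have r1 : FlatMod.IsFinLocFreeOfRank 1 T.X₁ := Ega2.QCohLocal.isFinLocFreeOfRank_one_iff.2 j1
  have r3 : FlatMod.IsFinLocFreeOfRank 1 T.X₃ := Ega2.QCohLocal.isFinLocFreeOfRank_one_iff.2 j3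
  have r2 : FlatMod.IsFinLocFreeOfRank 2 T.X₂ := Krr.H495.Rank.rank_shortExact hT r1 r3
  have hX2 : Coh.IsQCoh T.X₂ := Ega2.QCohLocal.isQCoh_of_isFinLocFree (Krr.H495.Rank.isFinLocFree_of_rank r2)
  have hW2 : ExtPow.IsExtPow 2 T.X₂ W := K583.ExtPowPull.isExtPow_of_iso_left hX2 e2.symm hW
  obtain ⟨e⟩ := K482.DetSes.det_ses hT r1 r3 (Sga67.TensorOps.isExtPow_one T.X₁) hW2
    (Sga67.TensorOps.isExtPow_one T.X₃)
  have h1 : mk W hWi = mk T.X₁ j1 * mk T.X₃ j3 := by
    rw [mk_mul_mk j1 j3, mk_eq_iff]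
    exact ⟨e.symm⟩
  have h2 : mk T.X₁ j1 = mk _ i1 := (mk_eq_iff _ _).2 ⟨e1⟩
  have h3 : mk T.X₃ j3 = mk _ i2 := (mk_eq_iff _ _).2 ⟨e3 ≪≫ e4.symm⟩
  rw [h1, h2, h3, mk_mul_mk i1 i2, bx_mk]

end Prod

end K763.CanonC
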