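import Groth.Agent.SymSq.K763.LocGeo
import Groth.Agent.SymSq.K763.CanonC
import Groth.Agent.SymSq.K980.SymInt
import Groth.Agent.S0115
import Groth.Agent.S1582
import Groth.Agent.Sga3C.DimTop
import Groth.Agent.Sga4h.CurveHat410
import Groth.Agent.Picfga.CurveRelDim
import Groth.Agent.Surf.K461.Canon
import Groth.Agent.Surf.K455.Canon

/-!
# The canonical class of the symmetric square of a hyperelliptic curve

* `flat_pi`: the quotient by an involution with Cartier fixed scheme is flat;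
* `relDim_q`: the symmetric square of a smooth curve is smooth of relative dimension two;
* `pull_w`: `π^* ω_S = F_{g-2} N`.
-/

set_option autoImplicit false
universe u

open CategoryTheory CategoryTheory.Limits AlgebraicGeometry Opposite TopologicalSpace

namespace K763.SymCan

open Groth.Agent Groth.Agent.Grpsch.PicGrp K980.PicNum K980.BoxNum K980.NumC K980.Inter K980.QuotSeq K980.Main
open K980.DCover K980.Graph K980.Setup K980.SymData K763.CanonC
open Groth.Agent.Fdesc.LocGen (isInvertible_tensorMod isInvertible_pullback isInvertible_structureModule)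

section Flat

variable {X S Z : Scheme.{u}} {π : X ⟶ S} {τ : X ⟶ X} {i : Z ⟶ X} (H : QData π τ i)

include H in
theorem flat_pi : Flat π := by
  have := H.aff
  rw [HasRingHomProperty.iff_exists_appLE (P := @Flat)
    (RingHom.Flat.stableUnderComposition.stableUnderCompositionWithLocalizationAway
      RingHom.Flat.holdsForLocalizationAway).1]
  intro x
  obtain ⟨V, hxV, hV⟩ := Groth.Agent.Dix.IdealModCartier.exists_affine_mem_le (K980.QuotSeq.U H (π x)) (π x) (mem_U H (π x))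
  refine ⟨V, ⟨π ⁻¹ᵁ V.1, V.2.preimage π⟩, hxV, le_rfl, ?_⟩
  rw [← Scheme.Hom.app_eq_appLE]
  let alg : Algebra Γ(S, V.1) Γ(X, π ⁻¹ᵁ V.1) := (π.app V.1).hom.toAlgebra
  let e : (Γ(S, V.1) × Γ(S, V.1)) →ₗ[Γ(S, V.1)] Γ(X, π ⁻¹ᵁ V.1) :=
    { toFun := pr π (K980.QuotSeq.e H (π x)) V.1 hV
      map_add' := fun a b => by
        simp only [pr, Prod.fst_add, Prod.snd_add, map_add]
        ring
      map_smul' := fun c a => by
        change pr π (K980.QuotSeq.e H (π x)) V.1 hV (c • a) = fa π V.1 c * pr π (K980.QuotSeq.e H (π x)) V.1 hV a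
        simp only [pr, Prod.smul_fst, Prod.smul_snd, smul_eq_mul, map_mul]
        ring }
  have hbij : Function.Bijective e := K980.QuotSeq.hy H (π x) V.1 hV
  have h1 : Module.Flat Γ(S, V.1) Γ(X, π ⁻¹ᵁ V.1) := Module.Flat.of_linearEquiv (LinearEquiv.ofBijective e hbij).symm
  exact h1

end Flat

section Rel

variable (k : Type u) [Field k] [IsAlgClosed k] {C : Scheme.{u}} [C.Over (Spec (CommRingCat.of k))]
  [IsProper (C ↘ Spec (CommRingCat.of k))] [IsIntegral C] [SmoothOfRelativeDimension 1 (C ↘ Spec (CommRingCat.of k))]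
  {S Z : Scheme.{u}} {π : pullback (C ↘ Spec (CommRingCat.of k)) (C ↘ Spec (CommRingCat.of k)) ⟶ S}
  {τ : pullback (C ↘ Spec (CommRingCat.of k)) (C ↘ Spec (CommRingCat.of k)) ⟶
    pullback (C ↘ Spec (CommRingCat.of k)) (C ↘ Spec (CommRingCat.of k))}
  {i : Z ⟶ pullback (C ↘ Spec (CommRingCat.of k)) (C ↘ Spec (CommRingCat.of k))} (H : QData π τ i)
  (q : S ⟶ Spec (CommRingCat.of k))
  (hq : π ≫ q = pullback.fst (C ↘ Spec (CommRingCat.of k)) (C ↘ Spec (CommRingCat.of k)) ≫
    (C ↘ Spec (CommRingCat.of k))) [IsFinite π] [LocallyOfFiniteType q]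

omit [IsAlgClosed k] [IsProper (C ↘ Spec (CommRingCat.of k))] [IsIntegral C] in
theorem relDim_f : SmoothOfRelativeDimension 2 (pullback.fst (C ↘ Spec (CommRingCat.of k))
    (C ↘ Spec (CommRingCat.of k)) ≫ (C ↘ Spec (CommRingCat.of k))) := by
  have h1 : SmoothOfRelativeDimension 1 (pullback.fst (C ↘ Spec (CommRingCat.of k)) (C ↘ Spec (CommRingCat.of k))) :=
    (smoothOfRelativeDimension_isStableUnderBaseChange.{u} 1).of_isPullback (IsPullback.of_hasPullback _ _).flip ‹_›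
  exact AlgebraicGeometry.smoothOfRelativeDimension_comp 1 1 _ _

include H hq in
/-- The quotient is smooth of relative dimension two. -/
theorem relDim_q : SmoothOfRelativeDimension 2 q := by
  have hsm : Smooth (C ↘ Spec (CommRingCat.of k)) := SmoothOfRelativeDimension.smooth 1 _
  have hX : IsIntegral (pullback (C ↘ Spec (CommRingCat.of k)) (C ↘ Spec (CommRingCat.of k))) :=
    Groth.Agent.S1582.result k C C _ _
  have hf := relDim_f k (C := C)
  have hflat := flat_pi H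
  have hs : Surjective π := ⟨H.hsurj⟩
  have hN : IsLocallyNoetherian S := LocallyOfFiniteType.isLocallyNoetherian q
  have hfp : LocallyOfFinitePresentation π := LocallyOfFinitePresentation.iff_locallyOfFiniteType.2 inferInstance
  have h1 : Smooth (π ≫ q) := by
    rw [hq]
    exact SmoothOfRelativeDimension.smooth 2 _
  have h2 : Smooth q := Groth.Agent.S0115.result π q
  have h3 : ConnectedSpace S := by
    have : ConnectedSpace ↥(pullback (C ↘ Spec (CommRingCat.of k)) (C ↘ Spec (CommRingCat.of k))) := inferInstance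
    exact hs.surj.connectedSpace π.continuous
  have h4 : IsIntegral S := K980.Setup.isIntegral_of_connected q
  have hdim : topologicalKrullDim S = 2 := by
    rw [← Groth.Agent.Sga3C.DimTop.topologicalKrullDim_eq_of_isIntegralHom π,
      Groth.Agent.Sga4h.CurveHat410.topologicalKrullDim_eq (pullback.fst (C ↘ Spec (CommRingCat.of k))
        (C ↘ Spec (CommRingCat.of k)) ≫ (C ↘ Spec (CommRingCat.of k))) 2]
    rfl
  exact Picfga.CurveRelDim.smoothOfRelativeDimension_of_topologicalKrullDim_eq k S q 2 hdim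

end Rel

section Main

variable (k : Type u) [Field k] [IsAlgClosed k] (h2 : (2 : k) ≠ 0) {C : Scheme.{u}}
  [C.Over (Spec (CommRingCat.of k))] [IsProper (C ↘ Spec (CommRingCat.of k))] [IsIntegral C]
  [SmoothOfRelativeDimension 1 (C ↘ Spec (CommRingCat.of k))]
  (hdim : topologicalKrullDim C = 1) (g : ℕ) (hg : 2 ≤ g) (hgen : Curv2.genus k C = g)
  (κ : C ⟶ CohB1.ProjSpace 1 k) (hκ : κ ≫ CohB1.ProjSpace.toSpec 1 k = (C ↘ Spec (CommRingCat.of k)))
  [IsFinite κ] {σ : C ⟶ C} (h : σ ≫ κ = κ) (hσ : σ ≫ (C ↘ Spec (CommRingCat.of k)) = C ↘ Spec (CommRingCat.of k))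
  (hσ1 : σ ≠ 𝟙 C)
  (y : ∀ i : Fin 2, Γ(C, κ ⁻¹ᵁ CurvesC.ProjSpaceBasic.Dp 1 k i))
  (hy : ∀ (i : Fin 2) (V : (CohB1.ProjSpace 1 k).Opens) (hV : V ≤ CurvesC.ProjSpaceBasic.Dp 1 k i),
    Function.Bijective (K980.DCover.pr κ (y i) V hV))
  {N : (pullback (C ↘ Spec (CommRingCat.of k)) (C ↘ Spec (CommRingCat.of k))).Modules} (hN : PicF.IsInvertible N)
  (hNinv : ClSub.IsInverseOf N (ClSub.idealMod (gr k σ hσ).ker))
  (ρ : ULift.{u} (Equiv.Perm (Fin 2)) →* Aut (pullback (C ↘ Spec (CommRingCat.of k)) (C ↘ Spec (CommRingCat.of k))))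
  (hρ : (ρ (ULift.up (Equiv.swap 0 1))).hom =
    (pullbackSymmetry (C ↘ Spec (CommRingCat.of k)) (C ↘ Spec (CommRingCat.of k))).hom)
  {Sq : Scheme.{u}} {π : (pullback (C ↘ Spec (CommRingCat.of k)) (C ↘ Spec (CommRingCat.of k))) ⟶ Sq}
  (hπ : SGA1.IsQuot ρ π) (q : Sq ⟶ Spec (CommRingCat.of k))
  (hq : π ≫ q = pullback.fst (C ↘ Spec (CommRingCat.of k)) (C ↘ Spec (CommRingCat.of k)) ≫
    (C ↘ Spec (CommRingCat.of k)))
  {W : Sq.Modules} (hW : ExtPow.IsExtPow 2 (Omega.sheaf q) W)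

omit [IsAlgClosed k] [IsProper (C ↘ Spec (CommRingCat.of k))] [IsIntegral C]
  [SmoothOfRelativeDimension 1 (C ↘ Spec (CommRingCat.of k))] [IsFinite κ] in
theorem fc_add (m n : ℤ) : fc k κ (m + n) = fc k κ m * fc k κ n := by
  rw [fc, fc, fc, ell_add, bx_mul]

include h2 hdim hg hgen hκ h hσ1 hy hNinv hρ hπ hq hW in
/-- `π^* ω_S = F_{g-2} N`. -/
theorem pull_w : ∃ hWi : PicF.IsInvertible W,
    pull π (mk W hWi) = fc k κ ((g : ℤ) - 2) * mk N hN := by
  obtain ⟨hD, hS, e1, e2, -, -, -, -⟩ := facts k κ g hgen hκ h hσ hσ1 y hy hN hNinv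
  have H := qdata k ρ hρ hπ q hq h2 hD
  have hfin : IsFinite π := isFinite_pi k ρ hρ hπ q hq
  have hprop : IsProper q := isProper_q k ρ hρ hπ q hq
  have hrq := relDim_q k H q hq
  have hrf := relDim_f k (C := C)
  have hWi := K455.Canon.isInvertible q 2 hW
  obtain ⟨W', hW', hWi'⟩ := K455.Canon.exists_canonical (pullback.fst (C ↘ Spec (CommRingCat.of k))
    (C ↘ Spec (CommRingCat.of k)) ≫ (C ↘ Spec (CommRingCat.of k))) 2
  have e3 := K763.LocGeo.nonempty_iso H q _ hq 2 hW hW' hWi hWi'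
  have e4 := wx_eq k hW' hWi'
  have e5 := wc_eq k hdim g hg hgen κ hκ y hy
    (Sga67.TensorOps.isExtPow_one (Omega.sheaf (C ↘ Spec (CommRingCat.of k)))) (isInvertible_omega k (C := C))
  refine ⟨hWi, ?_⟩
  have e6 : pull π (mk W hWi) = mk _ hD * mk W' hWi' := by
    rw [pull_mk, mk_mul_mk hD hWi']
    exact (mk_eq_iff _ _).2 e3
  have e7 : bx k (ell k κ ((g : ℤ) - 1)) (ell k κ ((g : ℤ) - 1)) = fc k κ ((g : ℤ) - 1) := rfl
  have e8 : mk _ hD * fc k κ 1 = mk N hN := by
    rw [e1, ← mul_assoc, mul_inv_eq_one] at e2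
    rw [mul_comm, e2]
  have e9 : (g : ℤ) - 1 = 1 + ((g : ℤ) - 2) := by ring
  rw [e6, e4, e5, e7, e9, fc_add, ← mul_assoc, e8, mul_comm]

end Main

end K763.SymCan
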