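import Groth.Agent.Lefpen.H721.OmegaSec
import Groth.Agent.Dix.IdealModCartier
import Groth.Agent.Picfga.LineHom

/-!
# A ramification formula for top differential forms

`π : X ⟶ S` affine over a field, `S` and `X` smooth of the same relative dimension `n`, `D` an effective Cartier divisor
of `X` such that locally on `S` the pull-back of a generating form `d a_1 ∧ … ∧ d a_n` is a generator of `O(-D)` times a
generating form: then `π^* ω_S ≅ O(-D) ⊗ ω_X`.
-/

set_option autoImplicit false
universe u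

open CategoryTheory CategoryTheory.Limits AlgebraicGeometry Opposite TopologicalSpace

namespace K763.Hur

open Groth.Agent Groth.Agent.Fdesc.LocGen Groth.Agent.Lefpen.H721.OmegaSec Groth.Agent.Lefpen.H721.OmegaPow
open Groth.Agent.Picfga.LineHom Groth.Agent.Dix.IdealModCartier Groth.Agent.CurvesB.OmegaStalkDict
open KaehlerDifferential (D)

section Alg

/-- The wedge of a spanning family of `n` elements spans `⋀^n`. -/
theorem span_wedge {R M : Type*} [CommRing R] [AddCommGroup M] [Module R M] {n : ℕ} (v : Fin n → M)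
    (hv : Submodule.span R (Set.range v) = ⊤) :
    Submodule.span R {exteriorPower.ιMulti R n v} = ⊤ := by
  rw [eq_top_iff, ← exteriorPower.ιMulti_span_of_span R n M hv, Submodule.span_le]
  rintro _ ⟨a, ha, rfl⟩
  have h1 : ∀ i, ∃ j, v j = a i := fun i => ha ⟨i, rfl⟩
  choose α hα using h1
  have h2 : a = v ∘ α := funext fun i => (hα i).symm
  rw [h2]
  by_cases hinj : Function.Injective α
  · have hbij : Function.Bijective α := Finite.injective_iff_bijective.1 hinj
    have h3 := (exteriorPower.ιMulti R n).map_perm v (Equiv.ofBijective α hbij)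
    change exteriorPower.ιMulti R n (v ∘ α) = _ at h3
    rw [h3, Units.smul_def]
    exact Submodule.smul_of_tower_mem _ _ (Submodule.mem_span_singleton_self _)
  · rw [Function.not_injective_iff] at hinj
    obtain ⟨i, j, hij, hne⟩ := hinj
    rw [(exteriorPower.ιMulti R n).map_eq_zero_of_eq (v ∘ α) (by simp only [Function.comp_apply, hij]) hne]
    exact zero_mem _

/-- The differentials of a formally unramified extension are spanned by the old ones. -/
theorem span_unramified (k : Type*) {A B : Type*} [CommRing k] [CommRing A] [CommRing B] [Algebra k A] [Algebra k B]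
    (φ : A →ₐ[k] B) (h : φ.toRingHom.FormallyUnramified) {ι : Type*} (a : ι → A)
    (ha : Submodule.span A (Set.range fun i => D k A (a i)) = ⊤) :
    Submodule.span B (Set.range fun i => D k B (φ (a i))) = ⊤ := by
  let : Algebra A B := φ.toRingHom.toAlgebra
  have : IsScalarTower k A B := IsScalarTower.of_algebraMap_eq (fun r => (φ.commutes r).symm)
  have : Algebra.FormallyUnramified A B := h
  have h1 : Function.Surjective (KaehlerDifferential.mapBaseChange k A B) := by
    intro x
    exact (KaehlerDifferential.exact_mapBaseChange_map k A B x).1 (Subsingleton.elim _ _)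
  rw [eq_top_iff]
  rintro x -
  obtain ⟨t, rfl⟩ := h1 x
  induction t using TensorProduct.induction_on with
  | zero => rw [map_zero]; exact zero_mem _
  | add x y hx hy => rw [map_add]; exact add_mem hx hy
  | tmul b w =>
    rw [KaehlerDifferential.mapBaseChange_tmul]
    refine Submodule.smul_mem _ _ ?_
    have hw : w ∈ Submodule.span A (Set.range fun i => D k A (a i)) := by rw [ha]; trivial
    induction hw using Submodule.span_induction with
    | mem w hw =>
      obtain ⟨i, rfl⟩ := hw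
      rw [KaehlerDifferential.map_D]
      exact Submodule.subset_span ⟨i, rfl⟩
    | zero => rw [map_zero]; exact zero_mem _
    | add x y _ _ hx hy => rw [map_add]; exact add_mem hx hy
    | smul a x _ hx =>
      rw [map_smul, ← algebraMap_smul B a]
      exact Submodule.smul_mem _ _ hx

end Alg

variable {k : Type u} [Field k]

section Gen

variable {X : Scheme.{u}} (f : X ⟶ Spec (CommRingCat.of k))

/-- Restriction between affine opens is formally unramified. -/
theorem resA_unramified {V W : X.Opens} (hV : IsAffineOpen V) (hW : IsAffineOpen W) (h : W ≤ V) :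
    (resA f h).toRingHom.FormallyUnramified := by
  have h1 : (𝟙 X : X ⟶ X).appLE V W h = X.presheaf.map (homOfLE h).op := by
    simp only [Scheme.Hom.appLE, Scheme.Hom.id_app]
    exact Category.id_comp _
  have h2 := HasRingHomProperty.appLE (P := @FormallyUnramified) (𝟙 X) inferInstance ⟨V, hV⟩ ⟨W, hW⟩ h
  rw [h1] at h2
  exact h2

theorem span_res {V W : X.Opens} (hV : IsAffineOpen V) (hW : IsAffineOpen W) (h : W ≤ V) {ι : Type*}
    (a : ι → SA f V) (ha : Submodule.span (SA f V) (Set.range fun i => D k (SA f V) (a i)) = ⊤) :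
    Submodule.span (SA f W) (Set.range fun i => D k (SA f W) (resA f h (a i))) = ⊤ :=
  span_unramified k (resA f h) (resA_unramified f hV hW h) a ha

/-- The wedge of a spanning family of exact differentials generates the canonical module. -/
theorem isGen_wedge {n : ℕ} {W : X.Modules} (hinv : PicF.IsInvertible W)
    (E : ∀ U : X.affineOpens, ⋀[SA f U.1]^n Ω[SA f U.1⁄k] ≃ₗ[SA f U.1] Γ(W, U.1))
    (hE : ∀ (U U' : X.affineOpens) (h : U'.1 ≤ U.1) (x : ⋀[SA f U.1]^n Ω[SA f U.1⁄k]),
      W.presheaf.map (homOfLE h).op (E U x) = E U' (powS (resA f h) n x))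
    (V : X.affineOpens) (b : Fin n → SA f V.1)
    (hb : Submodule.span (SA f V.1) (Set.range fun i => D k (SA f V.1) (b i)) = ⊤) :
    IsGen (M := W) (U := V.1) (E V (exteriorPower.ιMulti (SA f V.1) n fun i => D k (SA f V.1) (b i))) := by
  rw [isGen_iff_forall_exists]
  intro x hx
  obtain ⟨U0, e0, hx0, he0⟩ := (isInvertible_iff W).1 hinv x
  obtain ⟨V1, hxV1, hV1⟩ := exists_affine_mem_le (V.1 ⊓ U0) x ⟨hx, hx0⟩
  have hV : V1.1 ≤ V.1 := hV1.trans inf_le_left
  have hU : V1.1 ≤ U0 := hV1.trans inf_le_right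
  refine ⟨V1.1, hV, hxV1, ?_⟩
  have h1 : res W hV (E V (exteriorPower.ιMulti (SA f V.1) n fun i => D k (SA f V.1) (b i))) =
      E V1 (exteriorPower.ιMulti (SA f V1.1) n fun i => D k (SA f V1.1) (resA f hV (b i))) := by
    rw [← powS_D]
    exact hE V V1 hV _
  rw [h1]
  have h2 := span_wedge _ (span_res f V.2 V1.2 hV b hb)
  set w := exteriorPower.ιMulti (SA f V1.1) n fun i => D k (SA f V1.1) (resA f hV (b i)) with hw
  have he1 : IsGen (res W hU e0) := he0.res hU
  have h3 : ∃ c : Γ(X, V1.1), res W hU e0 = c • (E V1 w : Γ(W, V1.1)) := by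
    have : (E V1).symm (res W hU e0) ∈ Submodule.span (SA f V1.1) {w} := by rw [h2]; trivial
    obtain ⟨c, hc⟩ := Submodule.mem_span_singleton.1 this
    refine ⟨c, ?_⟩
    have h4 := congrArg (E V1) hc
    rw [map_smul, LinearEquiv.apply_symm_apply] at h4
    exact h4.symm
  obtain ⟨c, hc⟩ := h3
  obtain ⟨c', hc'⟩ := he1.exists_eq (E V1 w : Γ(W, V1.1))
  have h5 : c * c' = 1 := by
    apply he1.ext
    rw [one_smul, mul_smul, ← hc', ← hc]
  rw [hc']
  exact he1.unit_smul (IsUnit.of_mul_eq_one_right c h5)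

end Gen

section Main

variable {X S : Scheme.{u}} (p : S ⟶ Spec (CommRingCat.of k)) (f : X ⟶ Spec (CommRingCat.of k)) (π : X ⟶ S)
  (hπ : π ≫ p = f)

/-- The map on functions, as a homomorphism of algebras. -/
noncomputable def phi (V : S.Opens) : SA p V →ₐ[k] SA f (π ⁻¹ᵁ V) :=
  { (π.app V).hom with
    commutes' := fun c => by
      subst hπ
      change (π.app V) (secHom p V c) = secHom (π ≫ p) (π ⁻¹ᵁ V) c
      rw [secHom_eq, secHom_eq, ← Scheme.Hom.appLE_comp_appLE π p ⊤ V (π ⁻¹ᵁ V) le_top le_rfl,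
        ← Scheme.Hom.app_eq_appLE]
      rfl }

theorem phi_apply (V : S.Opens) (a : Γ(S, V)) : phi p f π hπ V a = π.app V a := rfl

theorem phi_res {V W : S.Opens} (h : W ≤ V) (a : SA p V) :
    resA f (π.preimage_mono h) (phi p f π hπ V a) = phi p f π hπ W (resA p h a) :=
  congr($(π.naturality (homOfLE h).op) a).symm

variable [QuasiSeparated p] [QuasiSeparated f] [IsAffineHom π] (n : ℕ)
  {W : S.Modules} (hW : ExtPow.IsExtPow n (Omega.sheaf p) W)
  {W' : X.Modules} (hW' : ExtPow.IsExtPow n (Omega.sheaf f) W') (hWi : PicF.IsInvertible W)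
  (hWi' : PicF.IsInvertible W') (D' : X.IdealSheafData)
  (h : ∀ y : S, ∃ (V : S.affineOpens) (e : SA f (π ⁻¹ᵁ V.1)) (a : Fin n → SA p V.1) (b : Fin n → SA f (π ⁻¹ᵁ V.1)),
    y ∈ V.1 ∧ GenOn (U := π ⁻¹ᵁ V.1) D' e ∧
      Submodule.span (SA p V.1) (Set.range fun i => D k (SA p V.1) (a i)) = ⊤ ∧
      Submodule.span (SA f (π ⁻¹ᵁ V.1)) (Set.range fun i => D k (SA f (π ⁻¹ᵁ V.1)) (b i)) = ⊤ ∧
      exteriorPower.ιMulti (SA f (π ⁻¹ᵁ V.1)) n (fun i => D k (SA f (π ⁻¹ᵁ V.1)) (phi p f π hπ V.1 (a i))) =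
        e • exteriorPower.ιMulti (SA f (π ⁻¹ᵁ V.1)) n (fun i => D k (SA f (π ⁻¹ᵁ V.1)) (b i)))

include hπ hW hW' hWi hWi' h in
/-- **The ramification formula.** -/
theorem nonempty_iso : Nonempty ((Scheme.Modules.pullback π).obj W ≅
    CohB1.tensorMod (ClSub.idealMod D') W') := by
  obtain ⟨E, hE⟩ := exists_equiv_family p hW
  obtain ⟨E', hE'⟩ := exists_equiv_family f hW'
  let pre (V : S.affineOpens) : X.affineOpens := ⟨π ⁻¹ᵁ V.1, V.2.preimage π⟩
  -- the map on forms
  let θ (V : S.affineOpens) (w : Γ(W, V.1)) : Γ(W', π ⁻¹ᵁ V.1) := E' (pre V) (powS (phi p f π hπ V.1) n ((E V).symm w))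
  have hθres : ∀ (V V' : S.affineOpens) (hV : V'.1 ≤ V.1) (w : Γ(W, V.1)),
      res W' (π.preimage_mono hV) (θ V w) = θ V' (res W hV w) := by
    intro V V' hV w
    obtain ⟨x, rfl⟩ := (E V).surjective w
    have h1 : res W hV (E V x) = E V' (powS (resA p hV) n x) := hE V V' hV x
    change res W' _ (E' (pre V) (powS (phi p f π hπ V.1) n ((E V).symm (E V x)))) =
      E' (pre V') (powS (phi p f π hπ V'.1) n ((E V').symm (res W hV (E V x))))
    rw [h1, LinearEquiv.symm_apply_apply, LinearEquiv.symm_apply_apply]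
    refine (hE' (pre V) (pre V') (π.preimage_mono hV) _).trans ?_
    rw [powS_powS, powS_powS]
    congr 1
    exact powS_congr (fun a => phi_res p f π hπ hV a) n x
  have hθsmul : ∀ (V : S.affineOpens) (c : Γ(S, V.1)) (w : Γ(W, V.1)),
      θ V (c • w) = (π.app V.1 c : Γ(X, π ⁻¹ᵁ V.1)) • θ V w := by
    intro V c w
    let c' : SA p V.1 := c
    change E' (pre V) (powS (phi p f π hπ V.1) n ((E V).symm (c' • w))) = _
    rw [map_smul, LinearMap.map_smulₛₗ, map_smul]
    rfl
  choose V e0 a b hy he0 ha hb hab using h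
  let e (y : S) : Γ(X, π ⁻¹ᵁ (V y).1) := e0 y
  have he : ∀ y, GenOn D' (e y) := he0
  -- the generators
  let w (y : S) : Γ(W, (V y).1) := E (V y) (exteriorPower.ιMulti (SA p (V y).1) n fun i => D k (SA p (V y).1) (a y i))
  let v (y : S) : Γ(W', π ⁻¹ᵁ (V y).1) := E' (pre (V y)) (exteriorPower.ιMulti (SA f (π ⁻¹ᵁ (V y).1)) n fun i =>
    D k (SA f (π ⁻¹ᵁ (V y).1)) (b y i))
  have gw : ∀ y, IsGen (w y) := fun y => isGen_wedge p hWi E hE (V y) (a y) (ha y)
  have gv : ∀ y, IsGen (v y) := fun y => isGen_wedge f hWi' E' hE' (pre (V y)) (b y) (hb y)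
  have hθw : ∀ y, θ (V y) (w y) = e y • v y := by
    intro y
    change E' (pre (V y)) (powS (phi p f π hπ (V y).1) n ((E (V y)).symm (E (V y) _))) = _
    rw [LinearEquiv.symm_apply_apply, powS_D, hab, map_smul]
    rfl
  have hs : ∀ y, ∃ s : Γ(ClSub.idealMod D', π ⁻¹ᵁ (V y).1), val D' s = e y := fun y => by
    refine exists_val_eq D' (pre (V y)) ?_
    have := (he y (pre (V y)) le_rfl).2
    rw [ores_refl] at this
    rw [this]
    exact Ideal.mem_span_singleton_self _
  choose s hs using hs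
  have gs : ∀ y, IsGen (s y) := fun y => isGen_of_genOn ((hs y).symm ▸ he y)
  have hcov : (⨆ y, π ⁻¹ᵁ (V y).1) = ⊤ := top_le_iff.1 fun x _ => Opens.mem_iSup.2 ⟨π x, hy (π x)⟩
  have gn : ∀ y, IsGen (tmul (s y) (v y)) := fun y => (gs y).tmul (gv y)
  obtain ⟨φ, -⟩ := exists_iso (L := (Scheme.Modules.pullback π).obj W)
    (N := CohB1.tensorMod (ClSub.idealMod D') W') hcov (e := fun y => pullSec π (w y))
    (fun y => (gw y).pullSec π) (n := fun y => tmul (s y) (v y))
    (trans_of_inf (fun y => (gw y).pullSec π) (by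
      intro y z
      obtain ⟨c, hc⟩ := ((gw z).res (inf_le_right : (V y).1 ⊓ (V z).1 ≤ (V z).1)).exists_eq
        (res W (inf_le_left : (V y).1 ⊓ (V z).1 ≤ (V y).1) (w y))
      have hle : π ⁻¹ᵁ (V y).1 ⊓ π ⁻¹ᵁ (V z).1 ≤ π ⁻¹ᵁ ((V y).1 ⊓ (V z).1) := le_rfl
      have hge : π ⁻¹ᵁ ((V y).1 ⊓ (V z).1) ≤ π ⁻¹ᵁ (V y).1 ⊓ π ⁻¹ᵁ (V z).1 := le_rfl
      refine ⟨π.app ((V y).1 ⊓ (V z).1) c, ?_, ?_⟩
      · have h1 := congr(pullSec π $hc)
        rw [pullSec_smul, ← res_pullSec, ← res_pullSec] at h1
        exact h1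
      · -- compare the values in `W'`
        set U := π ⁻¹ᵁ (V y).1 ⊓ π ⁻¹ᵁ (V z).1 with hU
        set d : Γ(X, U) := π.app ((V y).1 ⊓ (V z).1) c with hd
        obtain ⟨b0, hb0⟩ := ((gv z).res (inf_le_right : U ≤ π ⁻¹ᵁ (V z).1)).exists_eq
          (res W' (inf_le_left : U ≤ π ⁻¹ᵁ (V y).1) (v y))
        have key : ores (inf_le_left : U ≤ _) (e y) • res W' (inf_le_left : U ≤ _) (v y) =
            d • (ores (inf_le_right : U ≤ _) (e z) • res W' (inf_le_right : U ≤ _) (v z)) := by
          have hex : ∀ x : {x : X // x ∈ U}, ∃ V' : S.affineOpens, π x.1 ∈ V'.1 ∧ V'.1 ≤ (V y).1 ⊓ (V z).1 := fun x =>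
            exists_affine_mem_le _ (π x.1) (hle x.2)
          choose V' hxV' hV' using hex
          refine res_ext W' (ι := {x : X // x ∈ U}) (V := U) (fun x => π ⁻¹ᵁ (V' x).1)
            (fun x => (π.preimage_mono (hV' x)).trans hge)
            (fun x hx => Opens.mem_iSup.2 ⟨⟨x, hx⟩, hxV' ⟨x, hx⟩⟩) ?_
          intro x
          have h1 := hθres (V y) (V' x) ((hV' x).trans inf_le_left) (w y)
          have h2 := hθres (V z) (V' x) ((hV' x).trans inf_le_right) (w z)
          have h3 := congrArg (res W (hV' x)) hc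
          rw [res_smul, res_res, res_res] at h3
          rw [h3, hθsmul, ← h2, hθw, hθw, res_smul, res_smul] at h1
          have h4 : ores ((π.preimage_mono (hV' x)).trans hge) d = π.app (V' x).1 (ores (hV' x) c) :=
            congr($(π.naturality (homOfLE (hV' x)).op) c).symm
          rw [res_smul, res_smul, res_smul, res_res, res_res, ores_ores, ores_ores]
          exact h1.trans (congrArg (fun r => r • (ores ((π.preimage_mono (hV' x)).trans
            (π.preimage_mono inf_le_right)) (e z) • res W' ((π.preimage_mono (hV' x)).trans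
            (π.preimage_mono inf_le_right)) (v z))) h4.symm)
        rw [hb0, smul_smul, smul_smul] at key
        have h4 := ((gv z).res (inf_le_right : U ≤ π ⁻¹ᵁ (V z).1)).ext key
        have h5 : b0 • res _ (inf_le_left : U ≤ π ⁻¹ᵁ (V y).1) (s y) =
            d • res _ (inf_le_right : U ≤ π ⁻¹ᵁ (V z).1) (s z) := by
          apply val_injective
          rw [val_smul, val_smul, val_res, val_res, hs, hs, ← h4, mul_comm]
        rw [res_tmul, res_tmul, hb0, tmul_smul, ← smul_tmul, h5, smul_tmul])) gn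
  exact ⟨φ⟩

end Main

end K763.Hur
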