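import Groth.Agent.Lefpen.H707.CoordsSmooth
import Groth.Agent.Lefpen.H720.DerRank
import Groth.Agent.SymSq.K763.Hur

/-!
# Differentials of a double cover

`B = A ⊕ A e` with `e² = f ∈ A`, two invertible, `A` with coordinates `T_1, …, T_n`.

* `rel`: `2 e de = Σ f_i dT_i`;
* `span_unit`: for `e` invertible the `dT_i` span `Ω_B`;
* `span_update`, `wedge_update`: for `f_j` invertible `Ω_B` is spanned by `de` and the `dT_i`, `i ≠ j`, and
  `f_j dT_1 ∧ … ∧ dT_n = 2 e dT_1 ∧ … de … ∧ dT_n`;
* `exists_ne_zero`: for `B` smooth of relative dimension `n` the `f_j` do not vanish simultaneously at a point where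
  `e` vanishes.
-/

set_option autoImplicit false
universe u

namespace K763.LocAlg

open KaehlerDifferential Groth.Agent.Lefpen.H707.Expand Groth.Agent.Lefpen.H721.OmegaPow

section

variable {k A B : Type*} [CommRing k] [CommRing A] [CommRing B] [Algebra k A] [Algebra k B] (φ : A →ₐ[k] B) (e : B)
  {f : A} (hf : e * e = φ f) {n : ℕ} {T c : Fin n → A}
  (hT : Submodule.span A (Set.range fun i => D k A (T i)) = ⊤) (hc : D k A f = ∑ i, c i • D k A (T i))

include hT in
theorem D_phi_mem (x : A) : D k B (φ x) ∈ Submodule.span B (Set.range fun i => D k B (φ (T i))) := by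
  have h : D k A x ∈ Submodule.span A (Set.range fun i => D k A (T i)) := by rw [hT]; trivial
  rw [← omS_D]
  generalize D k A x = w at h ⊢
  induction h using Submodule.span_induction with
  | mem w hw =>
    obtain ⟨i, rfl⟩ := hw
    rw [omS_D]
    exact Submodule.subset_span ⟨i, rfl⟩
  | zero => rw [map_zero]; exact zero_mem _
  | add x y _ _ hx hy => rw [map_add]; exact add_mem hx hy
  | smul a x _ hx =>
    rw [LinearMap.map_smulₛₗ]
    exact Submodule.smul_mem _ _ hx

include hf hc in
/-- `2 e de = Σ f_i dT_i`. -/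
theorem rel : (2 * e) • D k B e = ∑ i, φ (c i) • D k B (φ (T i)) := by
  have h := congrArg (omS φ) hc
  rw [omS_D, map_sum, ← hf, Derivation.leibniz, ← add_smul, ← two_mul] at h
  rw [h]
  refine Finset.sum_congr rfl fun i _ => ?_
  rw [LinearMap.map_smulₛₗ, omS_D]
  rfl

variable (hb : Function.Surjective fun p : A × A => φ p.1 + φ p.2 * e)

include hb hT in
/-- `Ω_B` is spanned by the `dT_i` and `de`. -/
theorem span_le (N : Submodule B Ω[B⁄k]) (h1 : ∀ i, D k B (φ (T i)) ∈ N) (h2 : D k B e ∈ N) : N = ⊤ := by
  have h3 : ∀ x : A, D k B (φ x) ∈ N := by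
    intro x
    refine Submodule.span_le.2 ?_ (D_phi_mem φ hT x)
    rintro _ ⟨i, rfl⟩
    exact h1 i
  rw [eq_top_iff, ← KaehlerDifferential.span_range_derivation, Submodule.span_le]
  rintro _ ⟨b, rfl⟩
  obtain ⟨p, rfl⟩ := hb b
  simp only [map_add, Derivation.leibniz]
  exact add_mem (h3 _) (add_mem (Submodule.smul_mem _ _ h2) (Submodule.smul_mem _ _ (h3 _)))

include hb hf hT hc in
theorem span_unit (h2 : IsUnit (2 : B)) (he : IsUnit e) :
    Submodule.span B (Set.range fun i => D k B (φ (T i))) = ⊤ := by
  refine span_le φ e hT hb _ (fun i => Submodule.subset_span ⟨i, rfl⟩) ?_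
  obtain ⟨u, hu⟩ := h2.mul he
  have h : D k B e = (↑u⁻¹ : B) • ∑ i, φ (c i) • D k B (φ (T i)) := by
    rw [← rel φ e hf hc, smul_smul, ← hu, Units.inv_mul, one_smul]
  rw [h]
  exact Submodule.smul_mem _ _ (Submodule.sum_mem _ fun i _ => Submodule.smul_mem _ _ (Submodule.subset_span ⟨i, rfl⟩))

include hf hc in
theorem wedge_update (j : Fin n) :
    φ (c j) • exteriorPower.ιMulti B n (fun i => D k B (φ (T i))) =
      (2 * e) • exteriorPower.ιMulti B n (fun i => D k B (Function.update (fun i => φ (T i)) j e i)) := by
  have h1 : (fun i => D k B (Function.update (fun i => φ (T i)) j e i)) =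
      Function.update (fun i => D k B (φ (T i))) j (D k B e) := by
    funext i
    by_cases hi : i = j
    · subst hi; simp
    · simp [hi]
  rw [h1, ← AlternatingMap.map_update_smul, rel φ e hf hc, AlternatingMap.map_update_sum, Finset.sum_eq_single j]
  · rw [AlternatingMap.map_update_smul]
    congr 2
    exact (Function.update_eq_self _ _).symm
  · intro i _ hij
    rw [AlternatingMap.map_update_smul, AlternatingMap.map_update_self _ _ (Ne.symm hij), smul_zero]
  · intro h
    exact absurd (Finset.mem_univ _) h

include hb hf hT hc in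
theorem span_update (j : Fin n) (hj : IsUnit (φ (c j))) :
    Submodule.span B (Set.range fun i => D k B (Function.update (fun i => φ (T i)) j e i)) = ⊤ := by
  have h0 : ∀ i, i ≠ j → D k B (φ (T i)) ∈ Submodule.span B
      (Set.range fun i => D k B (Function.update (fun i => φ (T i)) j e i)) := by
    intro i hi
    refine Submodule.subset_span ⟨i, ?_⟩
    simp [hi]
  have he : D k B e ∈ Submodule.span B
      (Set.range fun i => D k B (Function.update (fun i => φ (T i)) j e i)) := by
    refine Submodule.subset_span ⟨j, ?_⟩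
    simp
  refine span_le φ e hT hb _ (fun i => ?_) he
  by_cases hi : i = j
  · subst hi
    obtain ⟨u, hu⟩ := hj
    have h := rel φ e hf hc
    rw [← Finset.add_sum_erase _ _ (Finset.mem_univ i), ← sub_eq_iff_eq_add] at h
    have h2 : D k B (φ (T i)) = (↑u⁻¹ : B) • ((2 * e) • D k B e -
        ∑ x ∈ Finset.univ.erase i, φ (c x) • D k B (φ (T x))) := by
      rw [h, ← hu, smul_smul, Units.inv_mul, one_smul]
    rw [h2]
    refine Submodule.smul_mem _ _ (sub_mem (Submodule.smul_mem _ _ he) (Submodule.sum_mem _ fun x hx => ?_))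
    exact Submodule.smul_mem _ _ (h0 x (Finset.ne_of_mem_erase hx))
  · exact h0 i hi

end

section Field

variable {k A B : Type u} [CommRing k] [CommRing A] [CommRing B] [Algebra k A] [Algebra k B] (φ : A →ₐ[k] B) (e : B)
  {f : A} (hf : e * e = φ f) {n : ℕ} (cd : Coords k A n)
  (hb : Function.Bijective fun p : A × A => φ p.1 + φ p.2 * e)

include hb hf in
/-- The coefficients of `df` do not vanish simultaneously where `e` vanishes. -/
theorem exists_ne_zero (hB : (algebraMap k B).IsStandardSmoothOfRelativeDimension n) {K : Type u} [Field K]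
    (ψ : B →+* K) (he : ψ e = 0) : ∃ j, ψ (φ (cd.d j f)) ≠ 0 := by
  by_contra hcon
  push Not at hcon
  let E := Equiv.ofBijective _ hb
  have hE : ∀ b, φ (E.symm b).1 + φ (E.symm b).2 * e = b := fun b => E.apply_symm_apply b
  have hE' : ∀ p : A × A, E.symm (φ p.1 + φ p.2 * e) = p := fun p => E.symm_apply_apply p
  have hadd : ∀ b b', E.symm (b + b') = E.symm b + E.symm b' := by
    intro b b'
    rw [← hE' (E.symm b + E.symm b')]
    congr 1
    rw [Prod.fst_add, Prod.snd_add, map_add, map_add]
    conv_lhs => rw [← hE b, ← hE b']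
    ring
  have hmul : ∀ b b', E.symm (b * b') =
      ((E.symm b).1 * (E.symm b').1 + (E.symm b).2 * (E.symm b').2 * f,
        (E.symm b).1 * (E.symm b').2 + (E.symm b).2 * (E.symm b').1) := by
    intro b b'
    rw [← hE' (_, _)]
    congr 1
    simp only [map_add, map_mul, ← hf]
    conv_lhs => rw [← hE b, ← hE b']
    ring
  have hψ : ∀ b, ψ b = ψ (φ (E.symm b).1) := by
    intro b
    conv_lhs => rw [← hE b]
    rw [map_add, map_mul, he, mul_zero, add_zero]
  have hψf : ψ (φ f) = 0 := by rw [← hf, map_mul, he, mul_zero]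
  have hE1 : ∀ c : k, E.symm (algebraMap k B c) = (algebraMap k A c, 0) := by
    intro c
    rw [← hE' (algebraMap k A c, 0)]
    congr 1
    simp
  -- the derivations
  let Dv : ((Fin n → K) × K) → B → K := fun t b =>
    ∑ i, ψ (φ (cd.d i (E.symm b).1)) * t.1 i + ψ (φ (E.symm b).2) * t.2
  have h := Groth.Agent.Lefpen.H720.DerRank.finrank_le n (algebraMap k B) hB ψ Dv
    (by
      intro t b b'
      simp only [Dv, hadd, Prod.fst_add, Prod.snd_add, map_add, add_mul, Finset.sum_add_distrib]
      ring)
    (by
      intro t b b'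
      simp only [Dv, hmul]
      have h3 : ∀ i, ψ (φ (cd.d i ((E.symm b).1 * (E.symm b').1 + (E.symm b).2 * (E.symm b').2 * f))) * t.1 i =
          ψ b * (ψ (φ (cd.d i (E.symm b').1)) * t.1 i) + ψ b' * (ψ (φ (cd.d i (E.symm b).1)) * t.1 i) := by
        intro i
        rw [map_add, Derivation.leibniz, Derivation.leibniz, hψ b, hψ b']
        simp only [smul_eq_mul, map_add, map_mul, hψf, hcon]
        ring
      rw [Finset.sum_congr rfl fun i _ => h3 i, Finset.sum_add_distrib, ← Finset.mul_sum, ← Finset.mul_sum]
      simp only [map_add, map_mul]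
      rw [← hψ b, ← hψ b']
      ring)
    (by
      intro t r
      simp only [Dv, hE1, Derivation.map_algebraMap, map_zero, zero_mul, Finset.sum_const_zero, add_zero])
    (by
      intro t t' c
      simp only [Dv, Prod.fst_add, Prod.snd_add, Pi.add_apply, mul_add, Finset.sum_add_distrib]
      ring)
    (by
      intro x t c
      simp only [Dv, Prod.smul_fst, Prod.smul_snd, Pi.smul_apply, smul_eq_mul, mul_add, Finset.mul_sum]
      congr 1
      · exact Finset.sum_congr rfl fun i _ => by ring
      · ring)
    (by
      intro t ht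
      have h4 : ∀ j, t.1 j = 0 := by
        intro j
        have h5 := ht (φ (cd.T j))
        have h6 : E.symm (φ (cd.T j)) = (cd.T j, 0) := by
          rw [← hE' (cd.T j, 0)]
          congr 1
          simp
        simp only [Dv, h6, cd.d_T, map_zero, zero_mul, add_zero] at h5
        rw [Finset.sum_eq_single j] at h5
        · simpa using h5
        · intro i _ hij
          simp [hij]
        · intro h7
          exact absurd (Finset.mem_univ _) h7
      have h5 : t.2 = 0 := by
        have h5 := ht e
        have h6 : E.symm e = (0, 1) := by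
          rw [← hE' (0, 1)]
          congr 1
          simp
        simpa [Dv, h6] using h5
      exact Prod.ext (funext h4) h5)
  rw [Module.finrank_prod, Module.finrank_fin_fun, Module.finrank_self] at h
  omega

end Field

end K763.LocAlg
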