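import Groth.Agent.SymSq.K980.QuotSeq
import Groth.Agent.SymSq.K763.LocAlg

/-!
# The ramification formula for the quotient by an involution

`π : X ⟶ S` the quotient of a smooth `n`-dimensional scheme by an involution with fixed scheme an effective Cartier
divisor `Z`, with `S` smooth and two invertible: `π^* ω_S ≅ O(-Z) ⊗ ω_X`.
-/

set_option autoImplicit false
universe u

open CategoryTheory CategoryTheory.Limits AlgebraicGeometry Opposite TopologicalSpace

namespace K763.LocGeo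

open Groth.Agent Groth.Agent.Fdesc.LocGen Groth.Agent.Lefpen.H721.OmegaSec Groth.Agent.Lefpen.H721.OmegaPow
open Groth.Agent.Picfga.LineHom Groth.Agent.Dix.IdealModCartier Groth.Agent.CurvesB.OmegaStalkDict
open K980.DCover K980.Graph K980.CokerQ K980.InvQuot K980.QuotSeq K763.Hur
open KaehlerDifferential (D)

variable {k : Type u} [Field k]

section Chart

variable {X : Scheme.{u}} (f : X ⟶ Spec (CommRingCat.of k))

/-- Standard smoothness passes to smaller affine opens. -/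
theorem std_res (n : ℕ) {V W : X.Opens} (hV : IsAffineOpen V) (hW : IsAffineOpen W) (h : W ≤ V)
    (hs : (algebraMap k (SA f V)).IsStandardSmoothOfRelativeDimension n) :
    (algebraMap k (SA f W)).IsStandardSmoothOfRelativeDimension n := by
  have h1 : (𝟙 X : X ⟶ X).appLE V W h = X.presheaf.map (homOfLE h).op := by
    simp only [Scheme.Hom.appLE, Scheme.Hom.id_app]
    exact Category.id_comp _
  have h2 := HasRingHomProperty.appLE (P := @Etale) (𝟙 X) inferInstance ⟨V, hV⟩ ⟨W, hW⟩ h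
  rw [h1] at h2
  have h3 : (resA f h).toRingHom.IsStandardSmoothOfRelativeDimension 0 := by
    let : Algebra (SA f V) (SA f W) := (resA f h).toRingHom.toAlgebra
    have : Algebra.Etale (SA f V) (SA f W) := h2
    exact Algebra.Etale.iff_isStandardSmoothOfRelativeDimension_zero.1 this
  have h4 : algebraMap k (SA f W) = (resA f h).toRingHom.comp (algebraMap k (SA f V)) := by
    ext c
    exact ((resA f h).commutes c).symm
  rw [h4]
  have h5 := h3.comp hs
  rwa [zero_add] at h5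

/-- Small standard smooth charts. -/
theorem exists_chart (n : ℕ) [SmoothOfRelativeDimension n f] (x : X) (O : X.Opens) (hx : x ∈ O) :
    ∃ U : X.Opens, IsAffineOpen U ∧ x ∈ U ∧ U ≤ O ∧
      (algebraMap k (SA f U)).IsStandardSmoothOfRelativeDimension n := by
  obtain ⟨W, hW, V, hV, hxV, e, hst⟩ :=
    SmoothOfRelativeDimension.exists_isStandardSmoothOfRelativeDimension (n := n) (f := f) x
  have hWtop : W = ⊤ := by
    rw [eq_top_iff]
    intro y _
    have : y = f x := Subsingleton.elim (α := PrimeSpectrum k) _ _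
    rw [this]
    exact e hxV
  subst hWtop
  obtain ⟨U, hxU, hU⟩ := exists_affine_mem_le (V ⊓ O) x ⟨hxV, hx⟩
  refine ⟨U.1, U.2, hxU, hU.trans inf_le_right, ?_⟩
  refine std_res f n hV U.2 (hU.trans inf_le_left) ?_
  have h1 : algebraMap k (SA f V) = (f.appLE ⊤ V e).hom.comp (Scheme.ΓSpecIso (CommRingCat.of k)).inv.hom := by
    ext c
    exact secHom_eq f V c
  rw [h1]
  have h2 : (Scheme.ΓSpecIso (CommRingCat.of k)).inv.hom.IsStandardSmoothOfRelativeDimension 0 :=
    RingHom.IsStandardSmoothOfRelativeDimension.equiv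
      (Scheme.ΓSpecIso (CommRingCat.of k)).symm.commRingCatIsoToRingEquiv
  have h3 := hst.comp h2
  rwa [add_zero] at h3

end Chart

section Main

variable {X S Z : Scheme.{u}} {π : X ⟶ S} {τ : X ⟶ X} {i : Z ⟶ X} (H : QData π τ i)
  (p : S ⟶ Spec (CommRingCat.of k)) (f : X ⟶ Spec (CommRingCat.of k)) (hπ : π ≫ p = f) (n : ℕ)
  [SmoothOfRelativeDimension n p] [SmoothOfRelativeDimension n f]

/-- A generator of the ideal of a closed subscheme is invertible away from it. -/
theorem mem_basicOpen [IsClosedImmersion i] {U : X.Opens} {e : Γ(X, U)} (he : GenOn i.ker e) {x : X} (hx : x ∈ U)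
    (hxi : x ∉ Set.range i) : x ∈ X.basicOpen e := by
  let O : X.Opens := ⟨(Set.range i)ᶜ, i.isClosedEmbedding.isClosed_range.isOpen_compl⟩
  obtain ⟨W, hxW, hW⟩ := exists_affine_mem_le (U ⊓ O) x ⟨hx, hxi⟩
  have hWU : W.1 ≤ U := hW.trans inf_le_left
  have h1 : i.ker.ideal W = ⊤ := by
    rw [eq_top_iff]
    intro a _
    rw [Scheme.Hom.ker_apply, RingHom.mem_ker]
    have h2 : i ⁻¹ᵁ W.1 = ⊥ := by
      rw [eq_bot_iff]
      intro z hz
      exact (hW hz).2 ⟨z, rfl⟩
    have : Subsingleton Γ(Z, i ⁻¹ᵁ W.1) := by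
      rw [h2]
      infer_instance
    exact Subsingleton.elim _ _
  rw [(he W hWU).2, Ideal.span_singleton_eq_top] at h1
  rw [Scheme.mem_basicOpen _ _ _ hx]
  have h4 : X.presheaf.germ W.1 x hxW (ores hWU e) = X.presheaf.germ U x hx e :=
    X.presheaf.germ_res_apply (homOfLE hWU) x hxW e
  rw [← h4]
  exact h1.map (X.presheaf.germ W.1 x hxW).hom

/-- A generator of the ideal of a closed subscheme vanishes on it. -/
theorem notMem_basicOpen [IsClosedImmersion i] {U : X.Opens} (hU : IsAffineOpen U) {e : Γ(X, U)}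
    (he : GenOn i.ker e) {x : X} (hx : x ∈ Set.range i) : x ∉ X.basicOpen e := by
  intro hxe
  have h2 := (he ⟨U, hU⟩ le_rfl).2
  rw [ores_refl] at h2
  have h3 : e ∈ i.ker.ideal ⟨U, hU⟩ := by
    rw [h2]
    exact Ideal.mem_span_singleton_self _
  rw [Scheme.Hom.ker_apply, RingHom.mem_ker] at h3
  obtain ⟨z, rfl⟩ := hx
  have h4 : z ∈ i ⁻¹ᵁ X.basicOpen e := hxe
  rw [Scheme.preimage_basicOpen] at h4
  have h5 : (i.app U) e = 0 := h3
  rw [h5, Scheme.basicOpen_zero] at h4
  exact h4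

include H in
theorem exists_sq (y : S) : ∃ f0 : Γ(S, U H y), fa π (U H y) f0 = e H y * e H y := by
  refine H.hinv _ _ ?_
  rw [map_mul, tq_e]
  ring

/-- The data over an open. -/
theorem sq_res {y : S} {f0 : Γ(S, U H y)} (hf0 : fa π (U H y) f0 = e H y * e H y) {V : S.Opens} (hV : V ≤ U H y) :
    ores (π.preimage_mono hV) (e H y) * ores (π.preimage_mono hV) (e H y) = fa π V (ores hV f0) := by
  rw [← ores_fa, hf0, map_mul]

include H in
theorem isUnit_two (V : S.Opens) : IsUnit (2 : SA f (π ⁻¹ᵁ V)) := by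
  have h := (H.h2 V).map (fa π V)
  rw [map_ofNat] at h
  exact h

theorem bij (y : S) (V : S.Opens) (hV : V ≤ U H y) :
    Function.Bijective fun q : SA p V × SA p V => phi p f π hπ V q.1 +
      phi p f π hπ V q.2 * (show SA f (π ⁻¹ᵁ V) from ores (π.preimage_mono hV) (e H y)) :=
  hy H y V hV

/-- The local data. -/
def LD (i : Z ⟶ X) (y : S) : Prop :=
  ∃ (V : S.affineOpens) (e : SA f (π ⁻¹ᵁ V.1)) (a : Fin n → SA p V.1) (b : Fin n → SA f (π ⁻¹ᵁ V.1)),
    y ∈ V.1 ∧ GenOn (U := π ⁻¹ᵁ V.1) i.ker e ∧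
      Submodule.span (SA p V.1) (Set.range fun i => D k (SA p V.1) (a i)) = ⊤ ∧
      Submodule.span (SA f (π ⁻¹ᵁ V.1)) (Set.range fun i => D k (SA f (π ⁻¹ᵁ V.1)) (b i)) = ⊤ ∧
      exteriorPower.ιMulti (SA f (π ⁻¹ᵁ V.1)) n (fun i => D k (SA f (π ⁻¹ᵁ V.1)) (phi p f π hπ V.1 (a i))) =
        e • exteriorPower.ιMulti (SA f (π ⁻¹ᵁ V.1)) n (fun i => D k (SA f (π ⁻¹ᵁ V.1)) (b i))

omit [SmoothOfRelativeDimension n f] in
include H in
/-- Away from the branch locus. -/
theorem ld_off (x : X) (hx : x ∉ Set.range i) : LD (π := π) p f hπ n i (π x) := by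
  have := H.imm
  have := H.aff
  obtain ⟨f0, hf0⟩ := exists_sq H (π x)
  have hxU : x ∈ π ⁻¹ᵁ U H (π x) := mem_U H (π x)
  have h1 : π x ∈ S.basicOpen f0 := by
    have h2 := mem_basicOpen (genOn_e H (π x)) hxU hx
    have h3 : x ∈ X.basicOpen (fa π (U H (π x)) f0) := by
      rw [hf0, Scheme.basicOpen_mul]
      exact ⟨h2, h2⟩
    rwa [fa, ← Scheme.preimage_basicOpen] at h3
  obtain ⟨V, hV, hxV, hVf, hst⟩ := exists_chart p n (π x) (S.basicOpen f0) h1
  have hVU : V ≤ U H (π x) := hVf.trans (S.basicOpen_le f0)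
  have hst' : Algebra.IsStandardSmoothOfRelativeDimension n k (SA p V) := hst
  obtain ⟨cd⟩ := Groth.Agent.Lefpen.H707.CoordsSmooth.exists_coords hst'
  have hT : Submodule.span (SA p V) (Set.range fun i => D k (SA p V) (cd.T i)) = ⊤ := by
    rw [eq_top_iff, ← KaehlerDifferential.span_range_derivation, Submodule.span_le]
    rintro _ ⟨a, rfl⟩
    rw [cd.D_eq a]
    exact Submodule.sum_mem _ fun i _ => Submodule.smul_mem _ _ (Submodule.subset_span ⟨i, rfl⟩)
  let e1 : SA f (π ⁻¹ᵁ V) := ores (π.preimage_mono hVU) (e H (π x))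
  let f1 : SA p V := ores hVU f0
  have hef : e1 * e1 = phi p f π hπ V f1 := sq_res H hf0 hVU
  have hu : IsUnit f1 := by
    have h2 : IsUnit (ores (S.basicOpen_le f0) f0) := RingedSpace.isUnit_res_basicOpen S.toRingedSpace f0
    have h3 : f1 = ores hVf (ores (S.basicOpen_le f0) f0) := by rw [ores_ores]
    rw [h3]
    exact h2.map (ores hVf)
  have heu : IsUnit e1 := by
    have h2 : IsUnit (e1 * e1) := by
      rw [hef]
      exact hu.map (phi p f π hπ V)
    exact isUnit_of_mul_isUnit_left h2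
  refine ⟨⟨V, hV⟩, 1, cd.T, fun i => phi p f π hπ V (cd.T i), hxV, ?_, hT, ?_, ?_⟩
  · obtain ⟨u, hu⟩ := heu
    have h2 : GenOn (U := π ⁻¹ᵁ V) i.ker e1 := (genOn_e H (π x)).res _
    have h3 : GenOn (U := π ⁻¹ᵁ V) i.ker ((u⁻¹ : (SA f (π ⁻¹ᵁ V))ˣ) * e1 : SA f (π ⁻¹ᵁ V)) :=
      GenOn_unit_mul h2 (Units.isUnit _)
    rwa [← hu, Units.inv_mul] at h3
  · exact K763.LocAlg.span_unit (phi p f π hπ V) e1 hef hT (cd.D_eq f1) (bij H p f hπ (π x) V hVU).surjective
      (isUnit_two H f V) heu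
  · rw [one_smul]

include H in
/-- Small neighbourhoods of a fixed point are inverse images. -/
theorem exists_nhd {x : X} (hx : x ∈ Set.range i) (O : X.Opens) (hxO : x ∈ O) :
    ∃ O' : S.Opens, π x ∈ O' ∧ π ⁻¹ᵁ O' ≤ O := by
  let F : Set S := π '' (O : Set X)ᶜ
  have hF : IsClosed F := H.hcl _ O.2.isClosed_compl
  refine ⟨⟨Fᶜ, hF.isOpen_compl⟩, ?_, ?_⟩
  · rintro ⟨y, hy, hyx⟩
    apply hy
    rcases H.horb x y hyx.symm with h | h
    · rw [h]; exact hxO
    · obtain ⟨z, rfl⟩ := hx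
      have h2 : τ (i z) = i z := by
        rw [← Scheme.Hom.comp_apply, H.hi]
      rw [h, h2]
      exact hxO
  · intro y hy
    by_contra hyn
    exact hy ⟨y, hyn, rfl⟩

include H in
/-- At the branch locus. -/
theorem ld_on (x : X) (hx : x ∈ Set.range i) : LD (π := π) p f hπ n i (π x) := by
  have := H.imm
  have := H.aff
  obtain ⟨f0, hf0⟩ := exists_sq H (π x)
  have hxU : x ∈ π ⁻¹ᵁ U H (π x) := mem_U H (π x)
  obtain ⟨U1, hU1, hxU1, -, hst1⟩ := exists_chart f n x ⊤ trivial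
  obtain ⟨O', hxO', hO'⟩ := exists_nhd H hx U1 hxU1
  obtain ⟨V, hV, hxV, hVO, hst⟩ := exists_chart p n (π x) (O' ⊓ U H (π x)) ⟨hxO', hxU⟩
  have hVU : V ≤ U H (π x) := hVO.trans inf_le_right
  have hst' : Algebra.IsStandardSmoothOfRelativeDimension n k (SA p V) := hst
  have hst2 : (algebraMap k (SA f (π ⁻¹ᵁ V))).IsStandardSmoothOfRelativeDimension n :=
    std_res f n hU1 (hV.preimage π) ((π.preimage_mono (hVO.trans inf_le_left)).trans hO') hst1
  obtain ⟨cd⟩ := Groth.Agent.Lefpen.H707.CoordsSmooth.exists_coords hst'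
  have hT : Submodule.span (SA p V) (Set.range fun i => D k (SA p V) (cd.T i)) = ⊤ := by
    rw [eq_top_iff, ← KaehlerDifferential.span_range_derivation, Submodule.span_le]
    rintro _ ⟨a, rfl⟩
    rw [cd.D_eq a]
    exact Submodule.sum_mem _ fun i _ => Submodule.smul_mem _ _ (Submodule.subset_span ⟨i, rfl⟩)
  let e1 : SA f (π ⁻¹ᵁ V) := ores (π.preimage_mono hVU) (e H (π x))
  let f1 : SA p V := ores hVU f0
  have hef : e1 * e1 = phi p f π hπ V f1 := sq_res H hf0 hVU
  -- the evaluation at `x`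
  have hxV' : x ∈ π ⁻¹ᵁ V := hxV
  let ψ : SA f (π ⁻¹ᵁ V) →+* X.residueField x := (X.evaluation (π ⁻¹ᵁ V) x hxV').hom
  have hψ : ∀ b : SA f (π ⁻¹ᵁ V), ψ b = 0 ↔ x ∉ X.basicOpen (U := π ⁻¹ᵁ V) b := fun b =>
    Scheme.evaluation_eq_zero_iff_notMem_basicOpen X x hxV' b
  have he1 : ψ e1 = 0 := by
    rw [hψ]
    exact notMem_basicOpen (hV.preimage π) ((genOn_e H (π x)).res (π.preimage_mono hVU)) hx
  obtain ⟨j, hj⟩ := K763.LocAlg.exists_ne_zero (phi p f π hπ V) e1 hef cd (bij H p f hπ (π x) V hVU) hst2 ψ he1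
  rw [ne_eq, hψ, not_not] at hj
  -- the smaller open
  let c : Γ(S, V) := cd.d j f1
  have hxc : π x ∈ S.basicOpen c := by
    have h1 : x ∈ X.basicOpen (π.app V c) := hj
    rwa [← Scheme.preimage_basicOpen] at h1
  let V' : S.Opens := S.basicOpen c
  have hV' : IsAffineOpen V' := hV.basicOpen c
  have hle : V' ≤ V := S.basicOpen_le c
  let T' : Fin n → SA p V' := fun l => resA p hle (cd.T l)
  let c' : Fin n → SA p V' := fun l => resA p hle (cd.d l f1)
  let e2 : SA f (π ⁻¹ᵁ V') := ores (π.preimage_mono (hle.trans hVU)) (e H (π x))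
  let f2 : SA p V' := ores (hle.trans hVU) f0
  have hef2 : e2 * e2 = phi p f π hπ V' f2 := sq_res H hf0 (hle.trans hVU)
  have hT' := span_res p hV hV' hle cd.T hT
  have hf2 : f2 = resA p hle f1 := by
    change ores _ f0 = ores hle (ores hVU f0)
    rw [ores_ores]
  have hc' : D k (SA p V') f2 = ∑ l, c' l • D k (SA p V') (T' l) := by
    have h1 := congrArg (omS (resA p hle)) (cd.D_eq f1)
    rw [omS_D, map_sum] at h1
    rw [hf2, h1]
    refine Finset.sum_congr rfl fun l _ => ?_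
    rw [LinearMap.map_smulₛₗ, omS_D]
    rfl
  have hcu : IsUnit (c' j) := RingedSpace.isUnit_res_basicOpen S.toRingedSpace c
  have hcu' : IsUnit (phi p f π hπ V' (c' j)) := hcu.map _
  obtain ⟨u, hu⟩ := id hcu'
  refine ⟨⟨V', hV'⟩, (u⁻¹ : (SA f (π ⁻¹ᵁ V'))ˣ) * 2 * e2, T',
    Function.update (fun l => phi p f π hπ V' (T' l)) j e2, hxc, ?_, hT', ?_, ?_⟩
  · have h2 : GenOn (U := π ⁻¹ᵁ V') i.ker e2 := (genOn_e H (π x)).res _
    exact GenOn_unit_mul h2 ((Units.isUnit _).mul (isUnit_two H f V'))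
  · exact K763.LocAlg.span_update (phi p f π hπ V') e2 hef2 hT' hc'
      (bij H p f hπ (π x) V' (hle.trans hVU)).surjective j hcu'
  · have h3 := K763.LocAlg.wedge_update (phi p f π hπ V') e2 hef2 hc' j
    have h4 := congrArg (fun w => ((u⁻¹ : (SA f (π ⁻¹ᵁ V'))ˣ) : SA f (π ⁻¹ᵁ V')) • w) h3
    simp only [smul_smul] at h4
    rw [← hu, Units.inv_mul, one_smul, ← mul_assoc] at h4
    exact h4

include H hπ in
/-- The ramification formula for the quotient by an involution. -/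
theorem nonempty_iso [QuasiSeparated p] [QuasiSeparated f] {W : S.Modules}
    (hW : ExtPow.IsExtPow n (Omega.sheaf p) W) {W' : X.Modules} (hW' : ExtPow.IsExtPow n (Omega.sheaf f) W')
    (hWi : PicF.IsInvertible W) (hWi' : PicF.IsInvertible W') : Nonempty ((Scheme.Modules.pullback π).obj W ≅
      CohB1.tensorMod (ClSub.idealMod i.ker) W') := by
  have := H.aff
  refine Hur.nonempty_iso p f π hπ n hW hW' hWi hWi' i.ker fun y => ?_
  obtain ⟨x, rfl⟩ := H.hsurj y
  by_cases hx : x ∈ Set.range i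
  · exact ld_on H p f hπ n x hx
  · exact ld_off H p f hπ n x hx

end Main

end K763.LocGeo
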